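import Cfsg.Agent.S0602
import Cfsg.Agent.S0618
import Cfsg.Agent.Lib.Fusion.StableFree
import Cfsg.Agent.Lib.Fusion.PrimeCoreQuotient
import Cfsg.Agent.Lib.Fusion.SylowCenterModule
import Cfsg.Agent.Lib.Fusion.ThompsonComplement
import Cfsg.Agent.Lib.Fusion.System.PSolvableModel
import Cfsg.Agent.Lib.Invol.ExtremelyClosedTwo
import Cfsg.Agent.Lib.Block.PSolvableOne
import Cfsg.Agent.Lib.Coprime.Action

/-!
# A prime in some automizer occurs in the automizer of a characteristic subgroup
-/

set_option autoImplicit false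
set_option maxHeartbeats 400000
set_option linter.style.haveILetI false
set_option linter.unusedSectionVars false

open Subgroup

namespace CfsgLib.PGroup.AutPrime

universe u v

/-- The order of the automizer. -/
noncomputable def autCard {G : Type*} [Group G] (K : Subgroup G) : ℕ :=
  ((centralizer (K : Set G)).subgroupOf (normalizer (K : Set G))).index

theorem centralizer_sub_normal {G : Type*} [Group G] (K : Subgroup G) :
    ((centralizer (K : Set G)).subgroupOf (normalizer (K : Set G))).Normal := by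
  refine ⟨fun c hc n => ?_⟩
  rw [mem_subgroupOf, mem_centralizer_iff] at hc ⊢
  intro k hk
  have h1 : (n : G)⁻¹ * k * n ∈ K := by
    have := (mem_normalizer_iff.1 (inv_mem n.2) k).1 hk
    rwa [inv_inv] at this
  have h2 := hc _ h1
  show k * ((n : G) * c * (n : G)⁻¹) = (n : G) * c * (n : G)⁻¹ * k
  calc k * ((n : G) * c * (n : G)⁻¹) = n * ((n : G)⁻¹ * k * n * c) * (n : G)⁻¹ := by group
    _ = (n : G) * c * (n : G)⁻¹ * k := by rw [h2]; group

/-- An automizer maps into the automizer of an isomorphic image. -/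
theorem autCard_dvd_of_injOn {Y : Type*} {X : Type*} [Group Y] [Group X] [Finite Y] [Finite X]
    (f : Y →* X) (K : Subgroup Y) (hinj : ∀ x ∈ K, f x = 1 → x = 1) :
    autCard K ∣ autCard (K.map f) := by
  set N := normalizer (K : Set Y)
  set N' := normalizer ((K.map f : Subgroup X) : Set X) with hN'
  set C' := (centralizer ((K.map f : Subgroup X) : Set X)).subgroupOf N' with hC'
  haveI : C'.Normal := centralizer_sub_normal _
  let φ : N →* N' := (f.comp N.subtype).codRestrict N' fun n =>
    le_normalizer_map f ⟨(n : Y), n.2, rfl⟩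
  have hcomap : C'.comap φ = (centralizer (K : Set Y)).subgroupOf N := by
    ext n
    rw [mem_comap, hC', mem_subgroupOf, mem_subgroupOf, mem_centralizer_iff, mem_centralizer_iff]
    constructor
    · intro h k hk
      have h1 : f k * f (n : Y) = f (n : Y) * f k := h (f k) (mem_map_of_mem f hk)
      have h2 : (n : Y)⁻¹ * k * n * k⁻¹ ∈ K := by
        refine mul_mem ?_ (inv_mem hk)
        have := (mem_normalizer_iff.1 (inv_mem n.2) k).1 hk
        rwa [inv_inv] at this
      have h3 := hinj _ h2 (by rw [map_mul, map_mul, map_mul, map_inv, map_inv, mul_assoc (f (n : Y))⁻¹, h1]; group)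
      calc k * (n : Y) = (n : Y) * ((n : Y)⁻¹ * k * n * k⁻¹) * k := by group
        _ = (n : Y) * k := by rw [h3]; group
    · rintro h _ ⟨k, hk, rfl⟩
      show f k * f (n : Y) = f (n : Y) * f k
      rw [← map_mul, ← map_mul, h k hk]
  unfold autCard
  rw [← hcomap, index_comap]
  exact Subgroup.relIndex_dvd_index_of_normal C' φ.range

/-- An automizer of an image, when the normalizer lifts. -/
theorem autCard_map_dvd {Y : Type*} {X : Type*} [Group Y] [Group X] [Finite Y] [Finite X]
    (f : Y →* X) (K : Subgroup Y)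
    (hN : normalizer ((K.map f : Subgroup X) : Set X) ≤ (normalizer (K : Set Y)).map f) :
    autCard (K.map f) ∣ autCard K := by
  set N := normalizer (K : Set Y)
  set N' := normalizer ((K.map f : Subgroup X) : Set X) with hN'
  set C' := (centralizer ((K.map f : Subgroup X) : Set X)).subgroupOf N' with hC'
  let φ : N →* N' := (f.comp N.subtype).codRestrict N' fun n =>
    le_normalizer_map f ⟨(n : Y), n.2, rfl⟩
  have hs : Function.Surjective φ := fun y => by
    obtain ⟨x, hx, hxy⟩ := hN y.2
    exact ⟨⟨x, hx⟩, Subtype.ext hxy⟩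
  unfold autCard
  rw [← index_comap_of_surjective C' hs]
  refine index_dvd_of_le fun n hn => ?_
  rw [mem_subgroupOf] at hn
  rw [mem_comap, hC', mem_subgroupOf, mem_centralizer_iff]
  rintro _ ⟨k, hk, rfl⟩
  show f k * f (n : Y) = f (n : Y) * f k
  rw [← map_mul, ← map_mul, mem_centralizer_iff.1 hn k hk]

/-- `K` is a characteristic subgroup of `T`. -/
def CharIn {G : Type*} [Group G] (K T : Subgroup G) : Prop :=
  K ≤ T ∧ ∀ σ : MulAut T, ∀ x : T, (x : G) ∈ K → ((σ x : T) : G) ∈ K

theorem CharIn.normalizer_le {G : Type*} [Group G] [Finite G] {K T : Subgroup G} (h : CharIn K T) :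
    normalizer (T : Set G) ≤ normalizer (K : Set G) := by
  intro g hg
  refine mem_normalizer_iff.2 fun x => ?_
  have key : ∀ a : G, a ∈ normalizer (T : Set G) → ∀ y ∈ K, a * y * a⁻¹ ∈ K := by
    intro a ha y hy
    have := h.2 (T.normalizerMonoidHom ⟨a, ha⟩) ⟨y, h.1 hy⟩ hy
    simpa using this
  refine ⟨key g hg x, fun hx => ?_⟩
  have := key g⁻¹ (inv_mem hg) _ hx
  simpa [mul_assoc] using this

/-- Characteristic subgroups pull back along a map with characteristic kernel. -/
theorem CharIn.pullback {Y : Type*} {X : Type*} [Group Y] [Group X] (f : Y →* X) {T Z : Subgroup Y}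
    (hZ : CharIn Z T) (hker : ∀ t ∈ T, f t = 1 ↔ t ∈ Z) {K : Subgroup X}
    (hK : CharIn K (T.map f)) : CharIn (T ⊓ K.comap f) T := by
  refine ⟨inf_le_left, fun σ x hx => ⟨(σ x).2, ?_⟩⟩
  have hwd : ∀ a b : T, f a = f b → f (σ a : T) = f (σ b : T) := by
    intro a b hab
    have h0 : ((a⁻¹ * b : T) : Y) ∈ Z :=
      (hker _ (a⁻¹ * b : T).2).1 (by simp [hab])
    have h1 := (hker _ (σ (a⁻¹ * b)).2).2 (hZ.2 σ _ h0)
    simpa [map_mul, map_inv, inv_mul_eq_one] using h1
  let g : T →* (T.map f : Subgroup X) := f.subgroupMap T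
  have hg : Function.Surjective g := f.subgroupMap_surjective T
  have hgv : ∀ a : T, ((g a : (T.map f : Subgroup X)) : X) = f (a : Y) := fun a => rfl
  let r := Function.surjInv hg
  have hr : ∀ y, g (r y) = y := Function.surjInv_eq hg
  have hr' : ∀ a : T, ∀ τ : MulAut T, (∀ b c : T, f b = f c → f (τ b : T) = f (τ c : T)) →
      g (τ (r (g a))) = g (τ a) := by
    intro a τ hτ
    refine Subtype.ext ?_
    rw [hgv, hgv]
    exact hτ _ _ (by rw [← hgv, ← hgv, hr])
  have hwd' : ∀ a b : T, f a = f b → f (σ.symm a : T) = f (σ.symm b : T) := by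
    intro a b hab
    have h0 : ((a⁻¹ * b : T) : Y) ∈ Z :=
      (hker _ (a⁻¹ * b : T).2).1 (by simp [hab])
    have h1 := (hker _ (σ.symm (a⁻¹ * b)).2).2 (hZ.2 σ.symm _ h0)
    simpa [map_mul, map_inv, inv_mul_eq_one] using h1
  let τ : MulAut (T.map f : Subgroup X) :=
    { toFun := fun y => g (σ (r y))
      invFun := fun y => g (σ.symm (r y))
      left_inv := fun y => by
        show g (σ.symm (r (g (σ (r y))))) = y
        rw [hr' _ σ.symm hwd', MulEquiv.symm_apply_apply, hr]
      right_inv := fun y => by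
        show g (σ (r (g (σ.symm (r y))))) = y
        rw [hr' _ σ hwd, MulEquiv.apply_symm_apply, hr]
      map_mul' := fun y z => by
        rw [← map_mul g, ← map_mul σ]
        refine Subtype.ext ?_
        rw [hgv, hgv]
        exact hwd _ _ (by rw [← hgv, ← hgv, hr, map_mul, hr, hr]) }
  have h2 : ((τ (g x) : (T.map f : Subgroup X)) : X) ∈ K := hK.2 τ (g x) hx.2
  show f (σ x : T) ∈ K
  have h3 : τ (g x) = g (σ x) := hr' x σ hwd
  rw [h3] at h2
  exact h2

theorem charIn_bot {G : Type*} [Group G] (T : Subgroup G) : CharIn ⊥ T :=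
  ⟨bot_le, fun σ x hx => by
    have : x = 1 := Subtype.ext hx
    rw [this, map_one]; exact one_mem _⟩

theorem charIn_of_characteristic {G : Type*} [Group G] {T : Subgroup G} (K : Subgroup T)
    [hK : K.Characteristic] : CharIn (K.map T.subtype) T := by
  refine ⟨map_subtype_le _, fun σ x hx => ?_⟩
  obtain ⟨y, hy, hyx⟩ := hx
  have : y = x := Subtype.ext hyx
  subst this
  exact ⟨σ y, (characteristic_iff_le_comap.1 hK σ) hy, rfl⟩

end CfsgLib.PGroup.AutPrime
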