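import Cfsg.Agent.Lib.PGroup.AutomizerPrime.Basic

/-!
# Factorization in a `{p,q}`-group and the inductive step
-/

set_option autoImplicit false
set_option maxHeartbeats 800000
set_option linter.style.haveILetI false
set_option linter.unusedSectionVars false

open Subgroup

namespace CfsgLib.PGroup.AutPrime

universe u v

variable {p q : ℕ}

theorem mem_sylowZ {G : Type*} [Group G] {T : Subgroup G} {x : G} :
    x ∈ Cfsg.omegaOne p (T ⊓ centralizer (T : Set G)) ↔
      (x ∈ T ∧ x ∈ centralizer (T : Set G)) ∧ x ^ p = 1 := by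
  refine ⟨fun h => ?_, fun h => subset_closure ⟨⟨h.1.1, h.1.2⟩, h.2⟩⟩
  refine closure_induction (p := fun y _ => (y ∈ T ∧ y ∈ centralizer (T : Set G)) ∧ y ^ p = 1)
    ?_ ?_ ?_ ?_ h
  · rintro y ⟨hy, hy'⟩
    exact ⟨mem_inf.1 hy, hy'⟩
  · exact ⟨⟨one_mem _, one_mem _⟩, one_pow p⟩
  · rintro a b - - ⟨⟨haT, haC⟩, hap⟩ ⟨⟨hbT, hbC⟩, hbp⟩
    have hc : Commute a b := (mem_centralizer_iff.1 haC b hbT).symm
    exact ⟨⟨mul_mem haT hbT, mul_mem haC hbC⟩, by rw [hc.mul_pow, hap, hbp, mul_one]⟩
  · rintro a - ⟨⟨haT, haC⟩, hap⟩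
    exact ⟨⟨inv_mem haT, inv_mem haC⟩, by rw [inv_pow, hap, inv_one]⟩

theorem charIn_sylowZ {G : Type*} [Group G] (T : Subgroup G) :
    CharIn (Cfsg.omegaOne p (T ⊓ centralizer (T : Set G))) T := by
  refine ⟨fun x hx => (mem_sylowZ.1 hx).1.1, fun σ x hx => ?_⟩
  obtain ⟨⟨-, hC⟩, hp⟩ := mem_sylowZ.1 hx
  refine mem_sylowZ.2 ⟨⟨(σ x).2, mem_centralizer_iff.2 fun y hy => ?_⟩, ?_⟩
  · obtain ⟨z, hz⟩ := σ.surjective ⟨y, hy⟩
    have h1 : z * x = x * z := Subtype.ext (mem_centralizer_iff.1 hC z z.2)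
    have h2 := congrArg Subtype.val (congrArg σ h1)
    rw [map_mul, map_mul, hz] at h2
    exact h2
  · have h1 : x ^ p = 1 := Subtype.ext (by simpa using hp)
    have h2 := congrArg Subtype.val (congrArg σ h1)
    simpa using h2

theorem three_dvd_slTwo_two : 3 ∣ Nat.card (Matrix.SpecialLinearGroup (Fin 2) (ZMod 2)) := by
  haveI : Fact (Nat.Prime 3) := ⟨Nat.prime_three⟩
  set a : Matrix.SpecialLinearGroup (Fin 2) (ZMod 2) := ⟨!![0, 1; 1, 1], by decide⟩ with ha
  have h1 : orderOf a = 3 := orderOf_eq_prime (by decide)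
    (fun h => absurd (congrArg Subtype.val h) (by decide))
  exact (dvd_of_eq h1.symm).trans (orderOf_dvd_natCard a)

theorem two_dvd_slTwo_three : 2 ∣ Nat.card (Matrix.SpecialLinearGroup (Fin 2) (ZMod 3)) := by
  set a : Matrix.SpecialLinearGroup (Fin 2) (ZMod 3) := ⟨!![-1, 0; 0, -1], by decide⟩ with ha
  have h1 : orderOf a = 2 := orderOf_eq_prime (by decide)
    (fun h => absurd (congrArg Subtype.val h) (by decide))
  exact (dvd_of_eq h1.symm).trans (orderOf_dvd_natCard a)

/-- The orders `|SL₂(2)|`, `|SL₂(3)|` involve a prime other than the characteristic. -/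
theorem prime_dvd_card_slTwo {p : ℕ} [Fact p.Prime] (h : p = 2 ∨ p = 3) :
    (p = 2 ∧ 3 ∣ Nat.card (Matrix.SpecialLinearGroup (Fin 2) (ZMod p))) ∨
      (p = 3 ∧ 2 ∣ Nat.card (Matrix.SpecialLinearGroup (Fin 2) (ZMod p))) := by
  rcases h with rfl | rfl
  · exact Or.inl ⟨rfl, three_dvd_slTwo_two⟩
  · exact Or.inr ⟨rfl, two_dvd_slTwo_three⟩

/-- A `{p,q}`-group without `p'`-core is Thompson factorizable. -/
theorem factorizable {G : Type u} [Group G] [Finite G] [Fact p.Prime]
    (hsep : Cfsg.IsPSolvable p G) (hO : Cfsg.pPrimeCore p G = ⊥)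
    (hpq : ∀ r : ℕ, r.Prime → r ∣ Nat.card G → r = p ∨ r = q)
    (h23 : ¬ ((p = 2 ∧ q = 3) ∨ (p = 3 ∧ q = 2))) : Cfsg.IsThompsonFactorizable p G := by
  by_contra hnf
  obtain ⟨hp, E, -, -, -, hn, ⟨e⟩⟩ := Cfsg.Agent.S0618.result hsep hO hnf
  haveI := hn
  have hd : Nat.card (Matrix.SpecialLinearGroup (Fin 2) (ZMod p)) ∣ Nat.card G := by
    rw [← Nat.card_congr e.toEquiv]
    exact (card_quotient_dvd_card _).trans E.card_subgroup_dvd_card
  rcases prime_dvd_card_slTwo hp with ⟨rfl, h3⟩ | ⟨rfl, h2⟩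
  · rcases hpq 3 Nat.prime_three (h3.trans hd) with h | h
    · omega
    · exact h23 (Or.inl ⟨rfl, h.symm⟩)
  · rcases hpq 2 Nat.prime_two (h2.trans hd) with h | h
    · omega
    · exact h23 (Or.inr ⟨rfl, h.symm⟩)

theorem ne_one_of_mem_of_dvd {G : Type*} [Group G] [Finite G] {C : Subgroup G} {T : Subgroup G}
    [hq : Fact q.Prime] (hTC : T ≤ C) (hidx : ¬ q ∣ C.index)
    (hTidx : ∀ r : ℕ, r.Prime → r ∣ T.index → r = q) : C = ⊤ := by
  by_contra h
  have h1 : C.index ≠ 1 := fun hh => h (index_eq_one.1 hh)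
  obtain ⟨r, hr, hrd⟩ := Nat.exists_prime_and_dvd h1
  exact hidx (hTidx r hr (hrd.trans (index_dvd_of_le hTC)) ▸ hrd)

/-- The `{p,q}`-case. -/
theorem exists_charIn_pq (n : ℕ) : ∀ (G : Type u) [Group G] [Finite G], Nat.card G ≤ n →
    ∀ [Fact p.Prime] [Fact q.Prime], p ≠ q → ¬ ((p = 2 ∧ q = 3) ∨ (p = 3 ∧ q = 2)) →
    Cfsg.IsPSolvable p G → Cfsg.pPrimeCore p G = ⊥ →
    (∀ r : ℕ, r.Prime → r ∣ Nat.card G → r = p ∨ r = q) → q ∣ Nat.card G →
    ∀ T : Sylow p G, ∃ K : Subgroup G, CharIn K (T : Subgroup G) ∧ q ∣ autCard K := by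
  induction n with
  | zero =>
    intro G _ _ hn
    exact absurd hn (by have := Nat.card_pos (α := G); omega)
  | succ n ih =>
    intro G _ _ hn _ _ hne h23 hsep hO hpq hqG T
    have hp : p.Prime := Fact.out
    have hq : q.Prime := Fact.out
    by_contra hcon
    push Not at hcon
    set Z := Cfsg.omegaOne p ((T : Subgroup G) ⊓ centralizer ((T : Subgroup G) : Set G)) with hZ
    set J := Cfsg.thompsonSubgroupOf p (T : Subgroup G) with hJ
    have hZc := charIn_sylowZ (p := p) (T : Subgroup G)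
    have hJc : CharIn J (T : Subgroup G) := by
      haveI := (Cfsg.Agent.S0602.result (G := (T : Subgroup G)) (p := p)).1
      exact charIn_of_characteristic _
    have hZp : ∀ z ∈ Z, z ^ p = 1 := fun z hz => (mem_sylowZ.1 hz).2
    have hZJ : Z ≤ J := by
      obtain ⟨A, hA⟩ := CfsgLib.Fusion.exists_isMaxEA p (T : Subgroup G)
      have hle : A ⊔ Z ≤ (T : Subgroup G) := sup_le hA.1 hZc.1
      have hea : Cfsg.IsElementaryAbelian p (A ⊔ Z) := by
        have hgen : A ⊔ Z = closure ((A : Set G) ∪ Z) := by rw [Subgroup.closure_union, Subgroup.closure_eq, Subgroup.closure_eq]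
        have hcomm : ∀ a ∈ ((A : Set G) ∪ Z), ∀ b ∈ ((A : Set G) ∪ Z), a * b = b * a := by
          rintro a (ha | ha) b (hb | hb)
          · exact congrArg Subtype.val (hA.2.1.1.is_comm.comm (⟨a, ha⟩ : A) ⟨b, hb⟩)
          · exact mem_centralizer_iff.1 (mem_sylowZ.1 hb).1.2 a (hA.1 ha)
          · exact (mem_centralizer_iff.1 (mem_sylowZ.1 ha).1.2 b (hA.1 hb)).symm
          · exact mem_centralizer_iff.1 (mem_sylowZ.1 hb).1.2 a (hZc.1 ha)
        have hc' : IsMulCommutative (A ⊔ Z : Subgroup G) := by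
          rw [hgen]
          exact isMulCommutative_closure hcomm
        refine ⟨hc', fun x hx => ?_⟩
        rw [hgen] at hx hc'
        refine closure_induction (p := fun y _ => y ^ p = 1) ?_ (one_pow p) ?_ ?_ hx
        · rintro y (hy | hy)
          exacts [hA.2.1.2 y hy, hZp y hy]
        · intro a b ha hb h1 h2
          have hab : Commute a b := congrArg Subtype.val (hc'.is_comm.comm (⟨a, ha⟩ : Subgroup.closure _) ⟨b, hb⟩)
          rw [hab.mul_pow, h1, h2, mul_one]
        · intro a _ h1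
          rw [inv_pow, h1, inv_one]
      have heq : A = A ⊔ Z := eq_of_le_of_card_ge le_sup_left (hA.2.2 _ hle hea)
      exact le_trans (heq ▸ le_sup_right) (CfsgLib.Fusion.le_thompsonSubgroupOf hA)
    -- the center is central
    have hTidx : ∀ r : ℕ, r.Prime → r ∣ (T : Subgroup G).index → r = q := by
      intro r hr hrd
      rcases hpq r hr (hrd.trans (index_dvd_card _)) with rfl | h
      · exact absurd hrd T.not_dvd_index
      · exact h
    have hCZ : centralizer (Z : Set G) = ⊤ := by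
      refine ne_one_of_mem_of_dvd (q := q) (T := (T : Subgroup G)) ?_ (fun hd => hcon J hJc ?_) hTidx
      · intro t ht
        exact mem_centralizer_iff.2 fun z hz => (mem_centralizer_iff.1 (mem_sylowZ.1 hz).1.2 t ht).symm
      have hfac := factorizable (q := q) hsep hO hpq h23 T
      have hsurj : (centralizer (Z : Set G)).index =
          (centralizer (Z : Set G)).relIndex (normalizer (J : Set G)) := by
        refine Nat.le_antisymm ?_ ((relIndex_top_right (centralizer (Z : Set G))) ▸ relIndex_le_of_le_right le_top (by simp [index_ne_zero_of_finite]))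
        show Nat.card (G ⧸ centralizer (Z : Set G)) ≤
          Nat.card (normalizer (J : Set G) ⧸ (centralizer (Z : Set G)).subgroupOf (normalizer (J : Set G)))
        refine Nat.card_le_card_of_surjective
          (Quotient.map' (fun x : normalizer (J : Set G) => (x : G))
            (fun a b hab => by rw [QuotientGroup.leftRel_apply] at hab ⊢; exact hab)) ?_
        rintro ⟨g⟩
        obtain ⟨x, hx, c, hc, m, hm, he⟩ := hfac g⁻¹
        rw [hO, mem_bot] at hx
        rw [hx, one_mul] at he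
        refine ⟨QuotientGroup.mk ⟨m⁻¹, inv_mem hm⟩, QuotientGroup.eq.2 ?_⟩
        show (m⁻¹)⁻¹ * g ∈ centralizer (Z : Set G)
        have : g = m⁻¹ * c⁻¹ := by rw [← inv_inv g, he, mul_inv_rev]
        rw [this, show (m⁻¹)⁻¹ * (m⁻¹ * c⁻¹) = c⁻¹ by group]
        exact inv_mem hc
      rw [hsurj] at hd
      exact hd.trans (relIndex_dvd_of_le_left _ (centralizer_le hZJ))
    have hZctr : Z ≤ center G := fun z hz => mem_center_iff.2 fun g =>
      (mem_centralizer_iff.1 (hCZ.ge (mem_top g)) z hz).symm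
    haveI hZn : Z.Normal := ⟨fun z hz g => by
      rw [mem_center_iff.1 (hZctr hz) g, mul_inv_cancel_right]; exact hz⟩
    have hTne : (T : Subgroup G) ≠ ⊥ := by
      intro h
      have hdvd : ¬ p ∣ Nat.card G := fun hd => T.ne_bot_of_dvd_card hd h
      have htop : (⊤ : Subgroup G) ≤ Cfsg.pPrimeCore p G :=
        CfsgLib.Coprime.le_pPrimeCore_of_not_dvd hp (by rwa [card_top])
      rw [hO] at htop
      rw [← card_top (G := G), le_bot_iff.1 htop, card_bot] at hqG
      exact hq.one_lt.ne' (Nat.dvd_one.1 hqG)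
    have hZne : Z ≠ ⊥ := by
      haveI : Nontrivial (T : Subgroup G) := (nontrivial_iff_ne_bot _).2 hTne
      haveI := T.2.center_nontrivial
      obtain ⟨x, hx⟩ := exists_prime_orderOf_dvd_card' p (G := center (T : Subgroup G)) (by
        obtain ⟨k, hk, hk'⟩ := (T.2.to_subgroup _).nontrivial_iff_card.1
          (inferInstance : Nontrivial (center (T : Subgroup G)))
        rw [hk']; exact dvd_pow_self p hk.ne')
      intro h
      have hxZ : ((x : (T : Subgroup G)) : G) ∈ Z := mem_sylowZ.2 ⟨⟨(x : (T : Subgroup G)).2,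
        mem_centralizer_iff.2 fun y hy => congrArg Subtype.val (mem_center_iff.1 x.2 ⟨y, hy⟩)⟩, by
        have := congrArg (fun z : center (T : Subgroup G) => ((z : (T : Subgroup G)) : G))
          (hx ▸ pow_orderOf_eq_one x)
        simpa using this⟩
      rw [h, mem_bot] at hxZ
      have : x = 1 := Subtype.ext (Subtype.ext hxZ)
      rw [this, orderOf_one] at hx
      exact hp.one_lt.ne hx
    have hZpg : IsPGroup p Z := CfsgLib.Fusion.isPGroup_of_mem_forall hZp
    set f := QuotientGroup.mk' Z with hf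
    have hfs : Function.Surjective f := QuotientGroup.mk'_surjective Z
    have hcard : Nat.card (G ⧸ Z) ≤ n := by
      have h1 := Z.card_eq_card_quotient_mul_card_subgroup
      have h2 : 1 < Nat.card Z := by
        rcases (Nat.card Z).eq_zero_or_pos with h | h
        · exact absurd h Nat.card_pos.ne'
        · exact lt_of_le_of_ne h fun he => hZne (card_eq_one.1 he.symm)
      have h3 := Nat.card_pos (α := G ⧸ Z)
      nlinarith
    have hqn : q ∣ Nat.card (G ⧸ Z) := by
      rcases (hq.dvd_mul.1 (Z.card_eq_card_quotient_mul_card_subgroup ▸ hqG)) with h | h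
      · exact h
      · obtain ⟨k, hk⟩ := hZpg.exists_card_eq
        exact absurd ((Nat.prime_dvd_prime_iff_eq hq hp).1 (hq.dvd_of_dvd_pow (hk ▸ h))) hne.symm
    obtain ⟨K', hK', hqK'⟩ := ih (G ⧸ Z) hcard hne h23
      (CfsgLib.PGroup.isPSolvable_quotient hp hsep Z)
      (CfsgLib.ExtClosed.pPrimeCore_quotient_central hO hZpg hZctr)
      (fun r hr hrd => hpq r hr (hrd.trans (card_quotient_dvd_card Z))) hqn (T.mapSurjective hfs)
    rw [Sylow.coe_mapSurjective] at hK'
    set K := (T : Subgroup G) ⊓ K'.comap f with hK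
    have hKc : CharIn K (T : Subgroup G) :=
      CharIn.pullback f hZc (fun t _ => QuotientGroup.eq_one_iff t) hK'
    refine hcon K hKc ?_
    have hZK : Z ≤ K := le_inf hZc.1 fun z hz => by
      rw [mem_comap, show f z = 1 from (QuotientGroup.eq_one_iff z).2 hz]; exact one_mem _
    have hKm : K.map f = K' := by
      refine le_antisymm (map_le_iff_le_comap.2 inf_le_right) fun k hk => ?_
      obtain ⟨t, ht, rfl⟩ := hK'.1 hk
      exact ⟨t, ⟨ht, hk⟩, rfl⟩
    have hKcm : K = K'.comap f := by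
      refine le_antisymm inf_le_right fun g hg => ?_
      obtain ⟨k, hk, hkg⟩ := (hKm.ge : K' ≤ K.map f) hg
      have : k⁻¹ * g ∈ K := hZK (QuotientGroup.eq.1 hkg)
      simpa using mul_mem hk this
    refine hqK'.trans (hKm ▸ autCard_map_dvd f K ?_)
    rw [hKm, hKcm]
    intro y hy
    obtain ⟨g, rfl⟩ := hfs y
    refine ⟨g, mem_normalizer_iff.2 fun x => ?_, rfl⟩
    rw [mem_comap, mem_comap, map_mul, map_mul, map_inv]
    exact mem_normalizer_iff.1 hy (f x)

/-- A `p`-solvable group has a `{p,q}`-subgroup over a Sylow `p`-subgroup involving `q`. -/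
theorem exists_pq_subgroup (n : ℕ) : ∀ (G : Type u) [Group G] [Finite G], Nat.card G ≤ n →
    ∀ [Fact p.Prime] [Fact q.Prime], p ≠ q → Cfsg.IsPSolvable p G → q ∣ Nat.card G →
    ∀ T : Sylow p G, ∃ Y : Subgroup G, (T : Subgroup G) ≤ Y ∧ q ∣ Nat.card Y ∧
      ∀ r : ℕ, r.Prime → r ∣ Nat.card Y → r = p ∨ r = q := by
  induction n with
  | zero =>
    intro G _ _ hn
    exact absurd hn (by have := Nat.card_pos (α := G); omega)
  | succ n ih =>
    intro G _ _ hn _ _ hne hsep hqG T
    have hp : p.Prime := Fact.out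
    have hq : q.Prime := Fact.out
    by_cases hall : ∀ r : ℕ, r.Prime → r ∣ Nat.card G → r = p ∨ r = q
    · exact ⟨⊤, le_top, by rwa [card_top], fun r hr hd => hall r hr (by rwa [card_top] at hd)⟩
    haveI : Nontrivial G := Finite.one_lt_card_iff_nontrivial.1
      (hq.one_lt.trans_le (Nat.le_of_dvd Nat.card_pos hqG))
    obtain ⟨N, hNn, hNne, hN⟩ : ∃ N : Subgroup G, N.Normal ∧ N ≠ ⊥ ∧
        (IsPGroup p N ∨ (Nat.card N).Coprime p) := by
      rcases CfsgLib.PGroup.pCore_ne_bot_or_pPrimeCore_ne_bot hsep with h | h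
      · exact ⟨_, CfsgLib.Coprime.pCore_normal' p, h, Or.inl (CfsgLib.Coprime.pCore_isPGroup p)⟩
      · exact ⟨_, inferInstance, h, Or.inr (CfsgLib.Coprime.pPrimeCore_coprime hp)⟩
    haveI := hNn
    by_cases hqN : q ∣ Nat.card N
    · have hcop : (Nat.card N).Coprime p := hN.resolve_left fun h => by
        obtain ⟨k, hk⟩ := h.exists_card_eq
        exact hne ((Nat.prime_dvd_prime_iff_eq hq hp).1 (hq.dvd_of_dvd_pow (hk ▸ hqN))).symm
      haveI : Group.IsNilpotent (T : Subgroup G) := T.2.isNilpotent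
      obtain ⟨Q, hQ, hQT⟩ := CfsgLib.Coprime.exists_invariant_sylow (A := (T : Subgroup G)) (K := N)
        (fun t _ => by rw [normalizer_eq_top]; exact mem_top t)
        (by
          obtain ⟨k, hk⟩ := T.2.exists_card_eq
          rw [hk]
          exact Nat.Coprime.pow_left k hcop.symm)
        (Or.inl inferInstance) q
      refine ⟨(T : Subgroup G) ⊔ Q, le_sup_left, ?_, ?_⟩
      · refine dvd_trans ?_ (card_dvd_of_le le_sup_right)
        rw [← hQ.map_toSylow, card_map_of_injective N.subtype_injective]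
        exact hQ.toSylow.dvd_card_of_dvd_card hqN
      · intro r hr hrd
        have h1 : Nat.card ((T : Subgroup G) ⊔ Q : Subgroup G) ∣
            Nat.card (T : Subgroup G) * Nat.card Q := by
          set W := (T : Subgroup G) ⊔ Q
          haveI : (Q.subgroupOf W).Normal := normal_subgroupOf_of_le_normalizer
            (sup_le hQT le_normalizer)
          rw [← (Q.subgroupOf W).card_mul_index,
            Nat.card_congr (subgroupOfEquivOfLe (le_sup_right : Q ≤ W)).toEquiv, mul_comm]
          refine mul_dvd_mul_right ?_ _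
          show (Q.subgroupOf W).index ∣ _
          have e : Q.subgroupOf W ⊔ (T : Subgroup G).subgroupOf W = ⊤ := by
            rw [← subgroupOf_sup (le_sup_right : Q ≤ W) le_sup_left, sup_comm, subgroupOf_self]
          rw [← relIndex_top_right, ← e, relIndex_sup_left,
            ← Nat.card_congr (subgroupOfEquivOfLe (le_sup_left : (T : Subgroup G) ≤ W)).toEquiv]
          exact index_dvd_card _
        obtain ⟨a, ha⟩ := T.2.exists_card_eq
        obtain ⟨b, hb⟩ := hQ.isPGroup.exists_card_eq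
        rcases hr.dvd_mul.1 (hrd.trans h1) with h | h
        · exact Or.inl ((Nat.prime_dvd_prime_iff_eq hr hp).1 (hr.dvd_of_dvd_pow (ha ▸ h)))
        · exact Or.inr ((Nat.prime_dvd_prime_iff_eq hr hq).1 (hr.dvd_of_dvd_pow (hb ▸ h)))
    · set f := QuotientGroup.mk' N with hf
      have hfs : Function.Surjective f := QuotientGroup.mk'_surjective N
      have hc := N.card_eq_card_quotient_mul_card_subgroup
      have hN1 : 1 < Nat.card N := lt_of_le_of_ne Nat.card_pos fun he => hNne (card_eq_one.1 he.symm)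
      have hlt : Nat.card (G ⧸ N) ≤ n := by
        have := Nat.card_pos (α := G ⧸ N); nlinarith
      obtain ⟨Y', hTY', hqY', hY'⟩ := ih (G ⧸ N) hlt hne (CfsgLib.PGroup.isPSolvable_quotient hp hsep N)
        ((hq.dvd_mul.1 (hc ▸ hqG)).resolve_right hqN) (T.mapSurjective hfs)
      rw [Sylow.coe_mapSurjective] at hTY'
      set Y0 := Y'.comap f with hY0
      have hT0 : (T : Subgroup G) ≤ Y0 := map_le_iff_le_comap.1 hTY'
      have hq0 : q ∣ Nat.card Y0 := hqY'.trans (by
        rw [show Y' = Y0.map f from (map_comap_eq_self_of_surjective hfs _).symm]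
        exact card_map_dvd _ _)
      by_cases htop : Y0 = ⊤
      · have hQall : ∀ r : ℕ, r.Prime → r ∣ Nat.card (G ⧸ N) → r = p ∨ r = q := by
          intro r hr hrd
          refine hY' r hr ?_
          have : Y' = ⊤ := by rw [← map_comap_eq_self_of_surjective hfs Y', ← hY0, htop,
            map_top_of_surjective f hfs]
          rwa [this, card_top]
        rcases hN with hNp | hNc
        · refine absurd (fun r hr hrd => ?_) hall
          rcases hr.dvd_mul.1 (hc ▸ hrd) with h | h
          · exact hQall r hr h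
          · obtain ⟨k, hk⟩ := hNp.exists_card_eq
            exact Or.inl ((Nat.prime_dvd_prime_iff_eq hr hp).1 (hr.dvd_of_dvd_pow (hk ▸ h)))
        · have hco : (Nat.card N).Coprime N.index := Nat.coprime_of_dvd fun r hr h1 h2 => by
            rcases hQall r hr h2 with rfl | rfl
            · exact (Nat.Prime.coprime_iff_not_dvd hr).1 hNc.symm h1
            · exact hqN h1
          obtain ⟨L, hL⟩ := exists_right_complement'_of_coprime hco
          have hLc : Nat.card L = N.index := (hL.symm.index_eq_card).symm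
          obtain ⟨U⟩ : Nonempty (Sylow p L) := inferInstance
          obtain ⟨S, hS⟩ := (U.2.map L.subtype).exists_le_sylow
          have hSU : (U : Subgroup L).map L.subtype = (S : Subgroup G) := by
            refine eq_of_le_of_card_ge hS ?_
            rw [card_map_of_injective L.subtype_injective, U.card_eq_multiplicity,
              S.card_eq_multiplicity, hLc]
            refine Nat.pow_le_pow_right hp.pos (le_of_eq ?_)
            rw [← N.card_mul_index, Nat.factorization_mul (by positivity) index_ne_zero_of_finite,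
              Finsupp.add_apply, Nat.factorization_eq_zero_of_not_dvd
                ((hp.coprime_iff_not_dvd).1 hNc.symm), zero_add]
          obtain ⟨g, hg⟩ := MulAction.exists_smul_eq G S T
          refine ⟨L.map (MulAut.conj g).toMonoidHom, ?_, ?_, ?_⟩
          · rw [← hg]
            show ((S : Subgroup G).map (MulAut.conj g).toMonoidHom) ≤ _
            exact map_mono (hSU ▸ map_subtype_le _)
          · rw [card_map_of_injective (MulAut.conj g).injective, hLc]
            exact (hq.dvd_mul.1 (N.card_mul_index ▸ hqG)).resolve_left hqN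
          · intro r hr hrd
            rw [card_map_of_injective (MulAut.conj g).injective, hLc] at hrd
            exact hQall r hr hrd
      · have hlt0 : Nat.card Y0 ≤ n := by
          have h1 : Nat.card Y0 ≠ Nat.card G := fun h => htop (eq_top_of_card_eq Y0 h)
          have h2 := Nat.le_of_dvd Nat.card_pos Y0.card_subgroup_dvd_card
          omega
        obtain ⟨Y, h1, h2, h3⟩ := ih Y0 hlt0 hne
          (CfsgLib.Fusion.isPSolvable_of_injective Y0.subtype Y0.subtype_injective hsep) hq0
          (T.subtype hT0)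
        refine ⟨Y.map Y0.subtype, ?_, ?_, ?_⟩
        · intro t ht
          exact ⟨⟨t, hT0 ht⟩, h1 (show (⟨t, hT0 ht⟩ : Y0) ∈ (T : Subgroup G).subgroupOf Y0 from ht), rfl⟩
        · rwa [card_map_of_injective Y0.subtype_injective]
        · intro r hr hrd
          exact h3 r hr (by rwa [card_map_of_injective Y0.subtype_injective] at hrd)

/-- A prime dividing a `p`-solvable group with trivial `p'`-core occurs in the automizer of a characteristic
subgroup of a Sylow `p`-subgroup. -/
theorem exists_charIn {G : Type u} [Group G] [Finite G] [Fact p.Prime] [Fact q.Prime] (hne : p ≠ q)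
    (h23 : ¬ ((p = 2 ∧ q = 3) ∨ (p = 3 ∧ q = 2))) (hsep : Cfsg.IsPSolvable p G)
    (hO : Cfsg.pPrimeCore p G = ⊥) (hqG : q ∣ Nat.card G) (T : Sylow p G) :
    ∃ K : Subgroup G, CharIn K (T : Subgroup G) ∧ q ∣ autCard K := by
  obtain ⟨Y, hTY, hqY, hY⟩ := exists_pq_subgroup (p := p) (q := q) _ G le_rfl hne hsep hqG T
  have hp : p.Prime := Fact.out
  have hC := CfsgLib.Block.centralizer_pCore_le_of_isPSolvable hsep hO
  have hRY : Cfsg.pCore p G ≤ Y := (CfsgLib.Coprime.pCore_le_sylow T).trans hTY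
  have hOY : Cfsg.pPrimeCore p Y = ⊥ := by
    haveI : (Cfsg.pPrimeCore p Y).Normal := inferInstance
    haveI := CfsgLib.Coprime.pCore_normal' (G := G) p
    set W := Cfsg.pPrimeCore p Y
    set R := (Cfsg.pCore p G).subgroupOf Y with hR
    have hRp : IsPGroup p R := (CfsgLib.Coprime.pCore_isPGroup p).of_equiv (subgroupOfEquivOfLe hRY).symm
    have hWc : (Nat.card W).Coprime p := CfsgLib.Coprime.pPrimeCore_coprime hp
    have hbot : W ⊓ R = ⊥ := by
      obtain ⟨k, hk⟩ := hRp.exists_card_eq
      exact Subgroup.inf_eq_bot_of_coprime (hk ▸ Nat.Coprime.pow_right k hWc)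
    rw [eq_bot_iff]
    intro w hw
    have hwC : (w : G) ∈ centralizer (Cfsg.pCore p G : Set G) := by
      refine mem_centralizer_iff.2 fun r hr => ?_
      have hrR : (⟨r, hRY hr⟩ : Y) ∈ R := hr
      have h1 : w * ⟨r, hRY hr⟩ * w⁻¹ * (⟨r, hRY hr⟩ : Y)⁻¹ ∈ W ⊓ R := by
        refine mem_inf.2 ⟨?_, mul_mem (Normal.conj_mem inferInstance _ hrR w) (inv_mem hrR)⟩
        have h2 : (⟨r, hRY hr⟩ : Y) * w⁻¹ * (⟨r, hRY hr⟩ : Y)⁻¹ ∈ W :=
          Normal.conj_mem inferInstance _ (inv_mem hw) _
        have := mul_mem hw h2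
        simpa [mul_assoc] using this
      rw [hbot, mem_bot, mul_inv_eq_one, mul_inv_eq_iff_eq_mul] at h1
      exact (congrArg Subtype.val h1).symm
    have hwR : w ∈ W ⊓ R := ⟨hw, hC hwC⟩
    rwa [hbot] at hwR
  obtain ⟨K, hK, hqK⟩ := exists_charIn_pq (p := p) (q := q) _ Y le_rfl hne h23
    (CfsgLib.Fusion.isPSolvable_of_injective Y.subtype Y.subtype_injective hsep) hOY hY hqY
    (T.subtype hTY)
  refine ⟨K.map Y.subtype, ?_, hqK.trans (autCard_dvd_of_injOn Y.subtype K fun x _ h => Subtype.ext h)⟩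
  refine ⟨?_, fun σ x hx => ?_⟩
  · rintro _ ⟨k, hk, rfl⟩
    exact hK.1 hk
  · let e : ((T.subtype hTY : Sylow p Y) : Subgroup Y) ≃* (T : Subgroup G) := subgroupOfEquivOfLe hTY
    obtain ⟨k, hk, hkx⟩ := hx
    refine ⟨((e.symm (σ x) : ((T.subtype hTY : Sylow p Y) : Subgroup Y)) : Y), ?_, rfl⟩
    have := hK.2 ((e.trans σ).trans e.symm) (e.symm x) (by
      have : ((e.symm x : ((T.subtype hTY : Sylow p Y) : Subgroup Y)) : Y) = k := Subtype.ext hkx.symm
      rw [this]; exact hk)
    have h2 : ((e.trans σ).trans e.symm) (e.symm x) = e.symm (σ x) := by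
      show e.symm (σ (e (e.symm x))) = _
      rw [e.apply_symm_apply]
    exact (congrArg (fun z : ((T.subtype hTY : Sylow p Y) : Subgroup Y) => (z : Y) ∈ K) h2).mp this

end CfsgLib.PGroup.AutPrime
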